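import Mathlib
import Cfsg.Agent.Lib.Involutions.Basic
import Cfsg.Agent.Lib.Fusion.EACentralizers

/-!
# Bender's theorem, part one: actions in which every involution fixes exactly one point
-/

set_option autoImplicit false
set_option linter.style.haveILetI false

namespace Cfsg.Agent.Lib.BenderOne20

open MulAction Cfsg.Agent.Lib.Involutions.Basic

/-- A transitive action on at least two points in which every involution fixes exactly one point. -/
structure OneFix (G Ω : Type*) [Group G] [MulAction G Ω] : Prop where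
  one : ∀ t : G, orderOf t = 2 → ∃! x : Ω, t • x = x
  trans : IsPretransitive G Ω
  invol : ∃ t : G, orderOf t = 2
  nontrivial : Nontrivial Ω

/-- The involutions fixing the point `x`. -/
def invAt (G : Type*) {Ω : Type*} [Group G] [MulAction G Ω] (x : Ω) : Set G :=
  {t | orderOf t = 2 ∧ t • x = x}

/-- The involutions carrying `x` to `y`. -/
def swapSet (G : Type*) {Ω : Type*} [Group G] [MulAction G Ω] (x y : Ω) : Set G :=
  {w | orderOf w = 2 ∧ w • x = y}

/-- The two-point stabiliser. -/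
abbrev pairStab (G : Type*) {Ω : Type*} [Group G] [MulAction G Ω] (x y : Ω) : Subgroup G :=
  stabilizer G x ⊓ stabilizer G y

theorem smul_swap {G Ω : Type*} [Group G] [MulAction G Ω] {x y : Ω} {w : G}
    (hw : w ∈ swapSet G x y) : w • y = x := by
  rw [← hw.2, smul_smul, invol_mul_self hw.1, one_smul]

theorem swapSet_symm {G Ω : Type*} [Group G] [MulAction G Ω] {x y : Ω} {w : G}
    (hw : w ∈ swapSet G x y) : w ∈ swapSet G y x :=
  ⟨hw.1, smul_swap hw⟩

theorem eq_of_sq_eq {G : Type*} [Group G] {a b : G} (ha : Odd (orderOf a)) (hb : Odd (orderOf b))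
    (h : a ^ 2 = b ^ 2) : a = b := by
  obtain ⟨k, hk⟩ := ha.mul hb
  have h1 : ∀ c : G, c ^ (orderOf a * orderOf b) = 1 → c = (c ^ 2) ^ (k + 1) := by
    intro c hc
    rw [← pow_mul, show 2 * (k + 1) = orderOf a * orderOf b + 1 by omega, pow_succ, hc, one_mul]
  rw [h1 a (by rw [pow_mul, pow_orderOf_eq_one, one_pow]),
    h1 b (by rw [mul_comm, pow_mul, pow_orderOf_eq_one, one_pow]), h]

namespace OneFix

variable {G Ω : Type*} [Group G] [MulAction G Ω] (hG : OneFix G Ω)
include hG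

theorem eq_of_fix {t : G} (ht : orderOf t = 2) {x y : Ω} (hx : t • x = x) (hy : t • y = y) :
    x = y := by
  obtain ⟨z, -, hz⟩ := hG.one t ht
  rw [hz x hx, hz y hy]

theorem exists_fix {t : G} (ht : orderOf t = 2) : ∃ x : Ω, t • x = x :=
  (hG.one t ht).exists

/-- An element centralising an involution fixes its fixed point. -/
theorem smul_eq_of_commute {t g : G} {x : Ω} (ht : t ∈ invAt G x) (hc : t * g = g * t) :
    g • x = x := by
  refine hG.eq_of_fix ht.1 ?_ ht.2
  rw [smul_smul, hc, ← smul_smul, ht.2]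

theorem fix_eq_of_commute {s t : G} {x y : Ω} (hs : s ∈ invAt G x) (ht : t ∈ invAt G y)
    (hc : s * t = t * s) : x = y :=
  hG.eq_of_fix ht.1 (hG.smul_eq_of_commute hs hc) ht.2

omit hG in
theorem conj_mem_invAt {t g : G} {x : Ω} (ht : t ∈ invAt G x) :
    g * t * g⁻¹ ∈ invAt G (g • x) := by
  refine ⟨(orderOf_conj_eq g t).trans ht.1, ?_⟩
  rw [mul_smul, mul_smul, inv_smul_smul, ht.2]

theorem exists_invAt (x : Ω) : ∃ t : G, t ∈ invAt G x := by
  obtain ⟨t, ht⟩ := hG.invol
  obtain ⟨y, hy⟩ := hG.exists_fix ht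
  haveI := hG.trans
  obtain ⟨g, rfl⟩ := exists_smul_eq G y x
  exact ⟨_, conj_mem_invAt (g := g) ⟨ht, hy⟩⟩

variable [Finite G]

/-- Involutions with different fixed points have product of odd order. -/
theorem odd_mul {s t : G} {x y : Ω} (hs : s ∈ invAt G x) (ht : t ∈ invAt G y) (hxy : x ≠ y) :
    Odd (orderOf (s * t)) := by
  by_contra he
  rw [Nat.not_odd_iff_even] at he
  obtain ⟨hz, hzs, hzt⟩ := central_invol hs.1 ht.1 he
  obtain ⟨c, hc⟩ := hG.exists_fix hz
  have h1 : c = x := hG.fix_eq_of_commute ⟨hz, hc⟩ hs hzs.eq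
  have h2 : c = y := hG.fix_eq_of_commute ⟨hz, hc⟩ ht hzt.eq
  exact hxy (h1.symm.trans h2)

/-- Two involutions with different fixed points are interchanged by an involution. -/
theorem exists_swap {s t : G} {x y : Ω} (hs : s ∈ invAt G x) (ht : t ∈ invAt G y) (hxy : x ≠ y) :
    ∃ w, w ∈ swapSet G x y ∧ w * s * w⁻¹ = t := by
  obtain ⟨w, hw, hwt⟩ := Cfsg.Agent.Lib.Fusion.EACentralizers.exists_swapping_involution hs.1 ht.1
    (hG.odd_mul hs ht hxy)
  exact ⟨w, ⟨hw, hG.eq_of_fix ht.1 (hwt ▸ (conj_mem_invAt hs).2) ht.2⟩, hwt⟩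

theorem swapSet_nonempty {x y : Ω} (hxy : x ≠ y) : (swapSet G x y).Nonempty := by
  obtain ⟨s, hs⟩ := hG.exists_invAt x
  obtain ⟨t, ht⟩ := hG.exists_invAt y
  obtain ⟨w, hw, -⟩ := hG.exists_swap hs ht hxy
  exact ⟨w, hw⟩

/-- Two-point stabilisers have odd order. -/
theorem odd_pairStab {x y : Ω} (hxy : x ≠ y) : Odd (Nat.card (pairStab G x y)) :=
  (odd_card_iff_no_invol _).2 fun _ ht h2 => hxy (hG.eq_of_fix h2 ht.1 ht.2)

/-- The involution swapping the fixed points of two given involutions is unique. -/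
theorem swap_unique {s w w' : G} {x y : Ω} (hxy : x ≠ y) (hs : s ∈ invAt G x)
    (hw : w ∈ swapSet G x y) (hw' : w' ∈ swapSet G x y)
    (h : w * s * w⁻¹ = w' * s * w'⁻¹) : w = w' := by
  have key : ∀ v, v ∈ swapSet G x y → Odd (orderOf (v * s)) := by
    intro v hv
    obtain ⟨c, hc⟩ := hG.exists_fix hv.1
    refine hG.odd_mul ⟨hv.1, hc⟩ hs fun hcx => hxy ?_
    rw [hcx] at hc
    exact hc.symm.trans hv.2
  have h2 : (w * s) ^ 2 = (w' * s) ^ 2 := by
    rw [invol_inv hw.1, invol_inv hw'.1] at h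
    rw [pow_two, pow_two, ← mul_assoc, ← mul_assoc, h]
  exact mul_right_cancel (eq_of_sq_eq (key w hw) (key w' hw') h2)

/-- The two-point stabiliser is transitive on the involutions fixing either point. -/
theorem pairStab_conj_invAt {x y : Ω} (hxy : x ≠ y) {s t : G} (hs : s ∈ invAt G x)
    (ht : t ∈ invAt G x) : ∃ d ∈ pairStab G x y, d * s * d⁻¹ = t := by
  obtain ⟨u, hu⟩ := hG.swapSet_nonempty hxy
  have ht' : u * t * u⁻¹ ∈ invAt G y := hu.2 ▸ conj_mem_invAt ht
  obtain ⟨w, hw, hwt⟩ := hG.exists_swap hs ht' hxy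
  refine ⟨u * w, ⟨?_, ?_⟩, ?_⟩
  · show (u * w) • x = x
    rw [mul_smul, hw.2, smul_swap hu]
  · show (u * w) • y = y
    rw [mul_smul, smul_swap hw, hu.2]
  · calc u * w * s * (u * w)⁻¹ = u * (w * s * w⁻¹) * u⁻¹ := by group
      _ = (u * u) * t * (u * u)⁻¹ := by rw [hwt]; group
      _ = t := by rw [invol_mul_self hu.1]; group

/-- The two-point stabiliser is transitive on the involutions swapping the two points. -/
theorem pairStab_conj_swap {x y : Ω} (hxy : x ≠ y) {u w : G} (hu : u ∈ swapSet G x y)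
    (hw : w ∈ swapSet G x y) : ∃ d ∈ pairStab G x y, d * u * d⁻¹ = w := by
  have hmem : u * w ∈ pairStab G x y := by
    refine ⟨?_, ?_⟩
    · show (u * w) • x = x
      rw [mul_smul, hw.2, smul_swap hu]
    · show (u * w) • y = y
      rw [mul_smul, smul_swap hw, hu.2]
  have hodd : Odd (orderOf (u * w)) :=
    (hG.odd_pairStab hxy).of_dvd_nat (Subgroup.orderOf_dvd_natCard _ hmem)
  obtain ⟨d, hd, hdw⟩ := exists_conj_of_odd (invol_mul_self hu.1) (invol_mul_self hw.1) hodd
  obtain ⟨i, rfl | rfl⟩ := (mem_closure_pair (invol_mul_self hu.1) (invol_mul_self hw.1)).1 hd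
  · exact ⟨_, zpow_mem hmem i, hdw⟩
  · have hcomm := invert_comm (invol_mul_self hu.1)
      (invert_mul (invol_mul_self hu.1) (invol_mul_self hw.1)) i
    refine ⟨_, zpow_mem hmem (-i), Eq.trans ?_ hdw⟩
    generalize u * w = r at hcomm ⊢
    have h1 : u * r ^ i = r ^ (-i) * u := by
      have h2 := congrArg (fun z => u * z * u) hcomm
      rwa [mul_assoc u (r ^ i * u) u, mul_assoc (r ^ i) u u, ← mul_assoc u u (r ^ (-i)),
        invol_mul_self hu.1, mul_one, one_mul] at h2
    rw [h1]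
    group

/-- There are as many swappers of two points as involutions fixing one of them. -/
theorem card_swapSet {x y : Ω} (hxy : x ≠ y) :
    Nat.card (swapSet G x y) = Nat.card (invAt G y) := by
  obtain ⟨s, hs⟩ := hG.exists_invAt x
  refine Nat.card_eq_of_bijective
    (fun w : swapSet G x y => (⟨w.1 * s * w.1⁻¹, by
      have h := conj_mem_invAt (g := w.1) hs
      rwa [w.2.2] at h⟩ : invAt G y))
    ⟨fun w w' h => ?_, fun t => ?_⟩
  · exact Subtype.ext (hG.swap_unique hxy hs w.2 w'.2 (congrArg Subtype.val h))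
  · obtain ⟨w, hw, hwt⟩ := hG.exists_swap hs t.2 hxy
    exact ⟨⟨w, hw⟩, Subtype.ext hwt⟩

omit [Finite G] in
/-- Any two points have equally many involutions fixing them. -/
theorem card_invAt (x y : Ω) : Nat.card (invAt G x) = Nat.card (invAt G y) := by
  haveI := hG.trans
  obtain ⟨g, rfl⟩ := exists_smul_eq G x y
  refine Nat.card_eq_of_bijective
    (fun t : invAt G x => (⟨g * t.1 * g⁻¹, conj_mem_invAt t.2⟩ : invAt G (g • x)))
    ⟨fun a b h => Subtype.ext (by simpa using congrArg Subtype.val h), fun t => ?_⟩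
  refine ⟨⟨g⁻¹ * t.1 * g, ?_⟩, Subtype.ext (by simp [mul_assoc])⟩
  have := conj_mem_invAt (g := g⁻¹) t.2
  rwa [inv_inv, inv_smul_smul] at this

omit hG [Finite G] in
/-- Orbit counting for the conjugation action of a subgroup on a set of elements. -/
theorem card_eq_orbit_mul (D : Subgroup G) {S : Set G} {s : G} (hs : s ∈ S)
    (hinv : ∀ d ∈ D, ∀ t ∈ S, d * t * d⁻¹ ∈ S) (htr : ∀ t ∈ S, ∃ d ∈ D, d * s * d⁻¹ = t) :
    Nat.card D = Nat.card S * Nat.card ↥(D ⊓ Subgroup.centralizer {s}) := by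
  letI : MulAction D S :=
    { smul := fun d t => ⟨d.1 * t.1 * d.1⁻¹, hinv d d.2 t t.2⟩
      one_smul := fun t => Subtype.ext (by show (1 : G) * t.1 * 1⁻¹ = t.1; simp)
      mul_smul := fun a b t => Subtype.ext (by
        show (a.1 * b.1) * t.1 * (a.1 * b.1)⁻¹ = a.1 * (b.1 * t.1 * b.1⁻¹) * a.1⁻¹; group) }
  have horb : orbit D (⟨s, hs⟩ : S) = Set.univ := by
    refine Set.eq_univ_of_forall fun t => ?_
    obtain ⟨d, hd, hdt⟩ := htr t t.2
    exact ⟨⟨d, hd⟩, Subtype.ext hdt⟩
  have hcard := Nat.card_congr (orbitProdStabilizerEquivGroup D (⟨s, hs⟩ : S))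
  rw [Nat.card_prod, horb, Nat.card_univ] at hcard
  rw [← hcard]
  congr 1
  refine Nat.card_congr
    { toFun := fun d => ⟨d.1.1, d.1.2, Subgroup.mem_centralizer_singleton_iff.2 (by
        have h : d.1.1 * s * d.1.1⁻¹ = s := congrArg Subtype.val d.2
        exact mul_inv_eq_iff_eq_mul.1 h)⟩
      invFun := fun d => ⟨⟨d.1, d.2.1⟩, Subtype.ext (mul_inv_eq_iff_eq_mul.2
        (Subgroup.mem_centralizer_singleton_iff.1 d.2.2))⟩
      left_inv := fun d => rfl
      right_inv := fun d => rfl }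

theorem card_pairStab_invAt {x y : Ω} (hxy : x ≠ y) {s : G} (hs : s ∈ invAt G x) :
    Nat.card (pairStab G x y) =
      Nat.card (invAt G x) * Nat.card ↥(pairStab G x y ⊓ Subgroup.centralizer {s}) :=
  card_eq_orbit_mul _ hs (fun d hd t ht => by
    have h := conj_mem_invAt (g := d) ht
    rwa [(hd.1 : d • x = x)] at h)
    fun t ht => hG.pairStab_conj_invAt hxy hs ht

theorem card_pairStab_swap {x y : Ω} (hxy : x ≠ y) {u : G} (hu : u ∈ swapSet G x y) :
    Nat.card (pairStab G x y) =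
      Nat.card (invAt G x) * Nat.card ↥(pairStab G x y ⊓ Subgroup.centralizer {u}) := by
  rw [card_eq_orbit_mul _ hu (fun d hd t ht => ⟨(orderOf_conj_eq d t).trans ht.1, by
      rw [mul_smul, mul_smul, inv_smul_eq_iff.2 (hd.1 : d • x = x).symm, ht.2]; exact hd.2⟩)
    fun t ht => hG.pairStab_conj_swap hxy hu ht, hG.card_swapSet hxy, hG.card_invAt y x]

/-- A swapper of two points with fixed point `c`: the stabilisers of `(x, y)` and `(c, x)` have the
same order. -/
theorem card_pairStab_triangle {x y c : Ω} (hxy : x ≠ y) {u : G} (hu : u ∈ swapSet G x y)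
    (hc : u • c = c) : Nat.card (pairStab G x y) = Nat.card (pairStab G c x) := by
  have hcx : c ≠ x := fun h => hxy ((h ▸ hc).symm.trans hu.2)
  rw [hG.card_pairStab_swap hxy hu, hG.card_pairStab_invAt hcx ⟨hu.1, hc⟩, hG.card_invAt x c]
  congr 2
  have key : pairStab G x y ⊓ Subgroup.centralizer {u} = pairStab G c x ⊓ Subgroup.centralizer {u} := by
    ext g
    simp only [Subgroup.mem_inf, Subgroup.mem_centralizer_singleton_iff, mem_stabilizer_iff]
    constructor
    · rintro ⟨⟨hx, -⟩, hg⟩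
      exact ⟨⟨hG.smul_eq_of_commute ⟨hu.1, hc⟩ hg.symm, hx⟩, hg⟩
    · rintro ⟨⟨-, hx⟩, hg⟩
      refine ⟨⟨hx, ?_⟩, hg⟩
      rw [← hu.2, smul_smul, hg, ← smul_smul, hx]
  rw [key]

/-- An odd subgroup transitive on the involutions fixing a point is normalised by none of them,
provided two of them commute. -/
theorem not_mem_normalizer {D : Subgroup G} (hD : Odd (Nat.card D)) {c : Ω}
    (htr : ∀ s ∈ invAt G c, ∀ t ∈ invAt G c, ∃ d ∈ D, d * s * d⁻¹ = t)
    (hfour : ∃ a ∈ invAt G c, ∃ b ∈ invAt G c, a ≠ b ∧ a * b = b * a) {u : G}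
    (hu : u ∈ invAt G c) : u ∉ Subgroup.normalizer (D : Set G) := by
  intro hN
  set E := Subgroup.zpowers u with hE
  have hEle : E ≤ Subgroup.normalizer (D : Set G) := Subgroup.zpowers_le.2 hN
  obtain ⟨a, ha, b, hb, hne, hab⟩ := hfour
  have hmem : ∀ t ∈ invAt G c, t ∈ D ⊔ E := by
    intro t ht
    obtain ⟨d, hd, rfl⟩ := htr u hu t ht
    exact mul_mem (mul_mem (Subgroup.mem_sup_left hd)
      (Subgroup.mem_sup_right (Subgroup.mem_zpowers u))) (inv_mem (Subgroup.mem_sup_left hd))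
  -- every element of `D ⊔ ⟨u⟩` outside `D` lies in `D u`
  have hprod : ∀ g ∈ D ⊔ E, g ∈ D ∨ g * u ∈ D := by
    intro g hg
    rw [← SetLike.mem_coe, Subgroup.coe_mul_of_right_le_normalizer_left _ _ hEle,
      Set.mem_mul] at hg
    obtain ⟨d, hd, e, he, rfl⟩ := hg
    obtain ⟨k, rfl⟩ := Subgroup.mem_zpowers_iff.1 he
    have h2 : u ^ (2 : ℤ) = 1 := by rw [zpow_two, invol_mul_self hu.1]
    rcases Int.even_or_odd k with ⟨j, rfl⟩ | ⟨j, rfl⟩
    · left; rw [← two_mul, zpow_mul, h2, one_zpow, mul_one]; exact hd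
    · right
      rw [zpow_add, zpow_mul, h2, one_zpow, one_mul, zpow_one, mul_assoc, invol_mul_self hu.1,
        mul_one]
      exact hd
  have hout : ∀ t, orderOf t = 2 → t ∉ D := fun t ht h =>
    (odd_card_iff_no_invol D).1 hD t h ht
  have ha' := (hprod a (hmem a ha)).resolve_left (hout a ha.1)
  have hb' := (hprod b (hmem b hb)).resolve_left (hout b hb.1)
  have hab2 : a * b ∈ D := by
    have h := mul_mem ha' (inv_mem hb')
    rwa [mul_inv_rev, invol_inv hb.1, invol_inv hu.1, ← mul_assoc, mul_assoc a u u,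
      invol_mul_self hu.1, mul_one] at h
  refine hout _ ?_ hab2
  rw [invol_iff]
  refine ⟨?_, fun h => hne ?_⟩
  · calc a * b * (a * b) = a * (b * a) * b := by group
      _ = a * (a * b) * b := by rw [hab]
      _ = (a * a) * (b * b) := by group
      _ = 1 := by rw [invol_mul_self ha.1, invol_mul_self hb.1, one_mul]
  · rw [eq_inv_of_mul_eq_one_left h, invol_inv hb.1]

end OneFix

end Cfsg.Agent.Lib.BenderOne20
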