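import Mathlib
import Cfsg.Prelude.Def_CaseTheorems
import Cfsg.Prelude.Def_Involutions
import Cfsg.Agent.Lib.Cores.Basic
import Cfsg.Agent.Lib.Coprime.Generation
import Cfsg.Agent.Lib.PGroups.UniqueInvolution
import Cfsg.Agent.Lib.Involutions.StronglyEmbedded
import Cfsg.Agent.Lib.ZStar.UniqueCase

/-!
# Bender's theorem, part one: the case of one involution per Sylow subgroup, and the core
-/

set_option autoImplicit false
set_option linter.style.haveILetI false

namespace Cfsg.Agent.Lib.BenderOne20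

open Subgroup
open Cfsg.Agent.Lib.Involutions.Basic Cfsg.Agent.Lib.Involutions.StronglyEmbedded

universe u

variable {G : Type u} [Group G] [Finite G] {H : Subgroup G}

/-- Some subgroup of `H` is a four group. -/
def HasFour (H : Subgroup G) : Prop :=
  ∃ a ∈ H, ∃ b ∈ H, orderOf a = 2 ∧ orderOf b = 2 ∧ a ≠ b ∧ a * b = b * a

theorem oddCore_odd : Odd (Nat.card (Cfsg.oddCore G)) :=
  Nat.coprime_two_right.1 (Cores.pPrimeCore_coprime (G := G) 2)

omit [Finite G] in
theorem le_oddCore {N : Subgroup G} [N.Normal] (h : Odd (Nat.card N)) : N ≤ Cfsg.oddCore G :=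
  Cores.le_pPrimeCore (Nat.coprime_two_right.2 h)

/-- Without a four group in `H`, each Sylow 2-subgroup of `G` has just one involution. -/
theorem sylow_unique_invol (hSE : Cfsg.IsStronglyEmbedded H) (hH : ¬ HasFour H) (S : Sylow 2 G)
    (s t : G) (hsS : s ∈ S) (htS : t ∈ S) (hs : orderOf s = 2) (ht : orderOf t = 2) : s = t := by
  haveI : Fact (Nat.Prime 2) := ⟨Nat.prime_two⟩
  obtain ⟨P, hP⟩ := exists_sylow_le hSE
  obtain ⟨g, hg⟩ := MulAction.exists_smul_eq G S P
  -- a central involution of `S`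
  have hne : Nontrivial ↥(S : Subgroup G) := ⟨⟨⟨s, hsS⟩, 1, fun h => invol_ne_one hs
    (congrArg Subtype.val h)⟩⟩
  have := S.2.center_nontrivial
  obtain ⟨c, hc⟩ := exists_prime_orderOf_dvd_card' (G := Subgroup.center ↥(S : Subgroup G)) 2 (by
    obtain ⟨k, hk, hk'⟩ := (S.2.to_subgroup _).nontrivial_iff_card.1 this
    rw [hk']; exact dvd_pow_self 2 hk.ne')
  set z : G := ((c : ↥(S : Subgroup G)) : G) with hz
  have hz2 : orderOf z = 2 := by rw [hz, Subgroup.orderOf_coe, Subgroup.orderOf_coe, hc]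
  have hzS : z ∈ (S : Subgroup G) := (c : ↥(S : Subgroup G)).2
  have hmem : ∀ w, w ∈ (S : Subgroup G) → g * w * g⁻¹ ∈ H := by
    intro w hw
    apply hP
    rw [← hg, Sylow.coe_subgroup_smul]
    simpa using Subgroup.smul_mem_pointwise_smul (a := MulAut.conj g) w (S : Subgroup G) hw
  have key : ∀ w, w ∈ (S : Subgroup G) → orderOf w = 2 → w = z := by
    intro w hw hw2
    by_contra hne
    refine hH ⟨g * w * g⁻¹, hmem w hw, g * z * g⁻¹, hmem z hzS, (orderOf_conj_eq g w).trans hw2,
      (orderOf_conj_eq g z).trans hz2, fun h => hne (by simpa using h), ?_⟩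
    have hcomm : w * z = z * w :=
      congrArg Subtype.val (Subgroup.mem_center_iff.1 c.2 ⟨w, hw⟩)
    calc g * w * g⁻¹ * (g * z * g⁻¹) = g * (w * z) * g⁻¹ := by group
      _ = g * (z * w) * g⁻¹ := by rw [hcomm]
      _ = g * z * g⁻¹ * (g * w * g⁻¹) := by group
  rw [key s hsS hs, key t htS ht]

/-- Without a four group the Sylow 2-subgroups are cyclic or generalised quaternion. -/
theorem cyclic_or_quaternion (hSE : Cfsg.IsStronglyEmbedded H) (hH : ¬ HasFour H)
    (S : Sylow 2 G) :
    IsCyclic S ∨ ∃ m : ℕ, 1 ≤ m ∧ Nonempty ((S : Subgroup G) ≃* QuaternionGroup (2 ^ m)) := by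
  haveI : Fact (Nat.Prime 2) := ⟨Nat.prime_two⟩
  rcases PGroups.isCyclic_or_quaternion S.2 (fun x y hx hy => by
    have h := sylow_unique_invol hSE hH S x y x.2 y.2 (by rw [Subgroup.orderOf_coe, hx])
      (by rw [Subgroup.orderOf_coe, hy])
    rw [Subtype.ext h]; exact Subgroup.mem_zpowers _) with h | ⟨-, n, h1, hn⟩
  · exact Or.inl h
  · exact Or.inr ⟨n, h1, hn⟩

/-- Without a four group the group is covered by its odd core and `H`. -/
theorem sup_eq_top (hSE : Cfsg.IsStronglyEmbedded H) (hH : ¬ HasFour H) :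
    Cfsg.oddCore G ⊔ H = ⊤ := by
  haveI : Fact (Nat.Prime 2) := ⟨Nat.prime_two⟩
  obtain ⟨z, hz⟩ := exists_invol (G := H) hSE.2.1
  have hz2 : orderOf (z : G) = 2 := by rw [Subgroup.orderOf_coe]; exact hz
  have hpg : IsPGroup 2 (Subgroup.zpowers (z : G)) :=
    IsPGroup.of_card (n := 1) (by rw [Nat.card_zpowers, hz2, pow_one])
  obtain ⟨S, hS⟩ := hpg.exists_le_sylow
  have hzS : (z : G) ∈ (S : Subgroup G) := hS (Subgroup.mem_zpowers _)
  obtain ⟨N, hN, hodd, hcomm⟩ := ZStar.UniqueCase.zstar S z hz2 hzS fun g hg =>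
    sylow_unique_invol hSE hH S _ _ hg hzS ((orderOf_conj_eq g _).trans hz2) hz2
  have hNO : N ≤ Cfsg.oddCore G := le_oddCore hodd
  rw [eq_top_iff]
  intro g _
  -- the two involutions `z` and `g⁻¹zg` differ by an element of `N`
  set w : G := g⁻¹ * z * g with hw
  have hw2 : orderOf w = 2 := by
    have := orderOf_conj_eq g⁻¹ (z : G)
    rw [inv_inv] at this
    rw [hw, this, hz2]
  have hzz := invol_mul_self hz2
  have hmem : (z : G) * w ∈ N := by
    have h := hcomm g⁻¹
    rw [inv_inv, invol_inv hz2] at h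
    simpa [hw, mul_assoc] using h
  have hoddw : Odd (orderOf ((z : G) * w)) :=
    hodd.of_dvd_nat (N.orderOf_dvd_natCard hmem)
  obtain ⟨d, hd, hd'⟩ := exists_conj_of_odd hzz (invol_mul_self hw2) hoddw
  -- so some element of the coset `g O` centralises `z`
  have hdN : d ∈ N ⊔ H := by
    refine (Subgroup.closure_le _).2 ?_ hd
    rintro y (rfl | rfl)
    · exact Subgroup.mem_sup_right z.2
    · have h1 := mul_mem (Subgroup.mem_sup_right (S := N) z.2) (Subgroup.mem_sup_left (T := H) hmem)
      rw [← mul_assoc, hzz, one_mul] at h1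
      exact h1
  have hgd : g * d ∈ H := by
    refine mem_of_conj_mem hSE hz2 z.2 ?_
    have : g * d * z * (g * d)⁻¹ = g * (d * z * d⁻¹) * g⁻¹ := by group
    rw [this, hd', hw]
    simpa [mul_assoc] using z.2
  have : g = g * d * d⁻¹ := by group
  rw [this]
  exact mul_mem (Subgroup.mem_sup_right hgd) (inv_mem (sup_le_sup_right hNO H hdN))

/-- If `G` is covered by its odd core and `H`, the odd core of `H` lies in that of `G`. -/
theorem core_le_of_sup_eq_top (h : Cfsg.oddCore G ⊔ H = ⊤) :
    (Cfsg.oddCore H).map H.subtype ≤ Cfsg.oddCore G := by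
  set O := Cfsg.oddCore G
  set X := (Cfsg.oddCore H).map H.subtype with hX
  haveI hOn : O.Normal := inferInstance
  haveI : (O ⊔ X).Normal := by
    rw [← Subgroup.normalizer_eq_top_iff, eq_top_iff, ← h]
    refine sup_le (le_trans le_sup_left Subgroup.le_normalizer) ?_
    intro x hx
    have h1 : H ≤ Subgroup.normalizer (X : Set G) := by
      rw [hX]
      exact (Subgroup.le_normalizer_map (H := Cfsg.oddCore H) H.subtype).trans' (by
        rw [(Subgroup.normalizer_eq_top_iff).2 inferInstance, ← MonoidHom.range_eq_map,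
          Subgroup.range_subtype])
    have h2 : x ∈ Subgroup.normalizer (O : Set G) := by
      rw [(Subgroup.normalizer_eq_top_iff).2 hOn]; trivial
    rw [Subgroup.mem_normalizer_iff_map_conj_eq] at h2 ⊢
    rw [Subgroup.map_sup, h2, (Subgroup.mem_normalizer_iff_map_conj_eq).1 (h1 hx)]
  refine le_sup_right.trans (le_oddCore (N := O ⊔ X) ?_)
  have hcard : Odd (Nat.card O * Nat.card X) := by
    refine oddCore_odd.mul ?_
    rw [hX, Nat.card_congr (Subgroup.equivMapOfInjective _ _ H.subtype_injective).symm.toEquiv]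
    exact oddCore_odd
  exact hcard.of_dvd_nat (by
    rw [sup_comm, mul_comm]; exact Cores.card_sup_dvd_mul X O)

/-- With a four group in `H` the odd core lies in `H`. -/
theorem oddCore_le (hSE : Cfsg.IsStronglyEmbedded H) (hH : HasFour H) :
    Cfsg.oddCore G ≤ H := by
  haveI : Fact (Nat.Prime 2) := ⟨Nat.prime_two⟩
  obtain ⟨a, haH, b, hbH, ha, hb, hne, hab⟩ := hH
  have hn : ∀ x : G, x ∈ Subgroup.normalizer (Cfsg.oddCore G : Set G) := fun x => by
    rw [(Subgroup.normalizer_eq_top_iff).2 inferInstance]; trivial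
  have hsq : ∀ x : G, orderOf x = 2 → x ^ 2 ∈ centralizer (Cfsg.oddCore G : Set G) := fun x hx => by
    rw [← hx, pow_orderOf_eq_one]; exact one_mem _
  have hcop2 : (2 : ℕ).Coprime (Nat.card (Cfsg.oddCore G)) :=
    Nat.coprime_two_left.2 oddCore_odd
  have hE : IsPGroup 2 (closure ({a, b} : Set G)) := by
    rintro ⟨x, hx⟩
    refine ⟨1, Subtype.ext ?_⟩
    simp only [pow_one, SubmonoidClass.coe_pow, OneMemClass.coe_one]
    induction hx using Subgroup.closure_induction with
    | mem y hy =>
      rcases hy with rfl | rfl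
      · rw [← ha, pow_orderOf_eq_one]
      · rw [← hb, pow_orderOf_eq_one]
    | one => simp
    | mul y z hy hz ihy ihz =>
      have hcy : Commute y z := by
        have hcl : IsMulCommutative (closure ({a, b} : Set G)) := by
          refine Subgroup.isMulCommutative_closure ?_
          rintro u (rfl | rfl) v (rfl | rfl)
          exacts [rfl, hab, hab.symm, rfl]
        exact congrArg Subtype.val (hcl.is_comm.comm ⟨y, hy⟩ ⟨z, hz⟩)
      rw [hcy.mul_pow, ihy, ihz, one_mul]
    | inv y hy ihy => rw [inv_pow, ihy, inv_one]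
  obtain ⟨k, hk⟩ := hE.exists_card_eq
  have hcop : (Nat.card (closure ({a, b} : Set G))).Coprime (Nat.card (Cfsg.oddCore G)) := by
    rw [hk]; exact hcop2.pow_left k
  refine (Lib.Coprime.le_lineCentralizers hab (hn a) (hn b) (hsq a ha) (hsq b hb) hcop
    hcop2).trans (sup_le (inf_le_right.trans (centralizer_le hSE hb hbH)) (iSup_le fun i => ?_))
  refine inf_le_right.trans (centralizer_le hSE ?_ (mul_mem haH (pow_mem hbH _)))
  rw [invol_iff]
  have hi := ZMod.val_lt i
  have hbi : b ^ i.val * b ^ i.val = 1 := by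
    rw [← pow_add, ← two_mul, pow_mul, pow_two, invol_mul_self hb, one_pow]
  refine ⟨?_, fun h => ?_⟩
  · rw [mul_assoc a, ← mul_assoc (b ^ i.val), ← ((show Commute a b from hab).pow_right _).eq,
      mul_assoc a (b ^ i.val), hbi, mul_one, invol_mul_self ha]
  · have h2 := eq_inv_of_mul_eq_one_left h
    interval_cases hv : i.val
    · exact invol_ne_one ha (by simpa using h2)
    · exact hne (by rw [h2, pow_one, invol_inv hb])

end Cfsg.Agent.Lib.BenderOne20
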