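import Mathlib
import Cfsg.Prelude.Def_Involutions
import Cfsg.Agent.Lib.BenderOne20.RankOne
import Cfsg.Agent.Lib.BenderOne20.Setting
import Cfsg.Agent.Lib.Fusion.Swappers

/-!
# Bender's theorem, part one: from strongly embedded subgroups to actions
-/

set_option autoImplicit false
set_option linter.style.haveILetI false

namespace Cfsg.Agent.Lib.BenderOne20

open MulAction Cfsg.Agent.Lib.Involutions.Basic Cfsg.Agent.Lib.Involutions.StronglyEmbedded

variable {G : Type*} [Group G] [Finite G] {H : Subgroup G}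

/-- A strongly embedded subgroup gives an action on its cosets with one fixed point per
involution. -/
theorem oneFix_of_stronglyEmbedded (hSE : Cfsg.IsStronglyEmbedded H) : OneFix G (G ⧸ H) where
  one t ht := Lib.Fusion.Swappers.existsUnique_fixed hSE ht
  trans := inferInstance
  invol := by
    obtain ⟨t, ht⟩ := exists_invol (G := H) hSE.2.1
    exact ⟨t, by rw [Subgroup.orderOf_coe]; exact ht⟩
  nontrivial := by
    obtain ⟨g, -, hg⟩ := SetLike.exists_of_lt (lt_top_iff_ne_top.2 hSE.1)
    exact ⟨⟨(g : G ⧸ H), ((1 : G) : G ⧸ H), fun h => hg (by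
      rw [QuotientGroup.eq] at h
      simpa using inv_mem h)⟩⟩

omit [Finite G] in
theorem mem_invAt_base_iff {t : G} :
    t ∈ invAt G ((1 : G) : G ⧸ H) ↔ orderOf t = 2 ∧ t ∈ H := by
  simp only [invAt, Set.mem_ofPred_eq, smul_coset_eq_iff, inv_one, one_mul, mul_one]

omit [Finite G] in
theorem hasFour_iff :
    HasFour H ↔ ∃ a ∈ invAt G ((1 : G) : G ⧸ H), ∃ b ∈ invAt G ((1 : G) : G ⧸ H),
      a ≠ b ∧ a * b = b * a := by
  constructor
  · rintro ⟨a, haH, b, hbH, ha, hb, hne, hab⟩
    exact ⟨a, mem_invAt_base_iff.2 ⟨ha, haH⟩, b, mem_invAt_base_iff.2 ⟨hb, hbH⟩, hne, hab⟩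
  · rintro ⟨a, ha, b, hb, hne, hab⟩
    obtain ⟨ha1, ha2⟩ := mem_invAt_base_iff.1 ha
    obtain ⟨hb1, hb2⟩ := mem_invAt_base_iff.1 hb
    exact ⟨a, ha2, b, hb2, ha1, hb1, hne, hab⟩

namespace OneFix

variable {Ω : Type*} [MulAction G Ω]

/-- Two distinct commuting involutions normalising an odd subgroup force it to fix their common
fixed point. -/
theorem smul_eq_of_four (hG : OneFix G Ω) {X : Subgroup G} (hX : Odd (Nat.card X)) {d : Ω}
    {a b : G} (ha : a ∈ invAt G d) (hb : b ∈ invAt G d) (hne : a ≠ b) (hab : a * b = b * a)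
    (hna : a ∈ Subgroup.normalizer (X : Set G)) (hnb : b ∈ Subgroup.normalizer (X : Set G))
    {x : G} (hx : x ∈ X) : x • d = d := by
  haveI : Fact (Nat.Prime 2) := ⟨Nat.prime_two⟩
  have hsq : ∀ t : G, orderOf t = 2 → t ^ 2 ∈ Subgroup.centralizer (X : Set G) := fun t ht => by
    rw [← ht, pow_orderOf_eq_one]; exact one_mem _
  have hE : ∀ y ∈ Subgroup.closure ({a, b} : Set G), y ^ 2 = 1 := by
    intro y hy
    induction hy using Subgroup.closure_induction with
    | mem z hz =>
      rcases hz with rfl | rfl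
      · rw [← ha.1, pow_orderOf_eq_one]
      · rw [← hb.1, pow_orderOf_eq_one]
    | one => simp
    | mul y z hy hz ihy ihz =>
      have hcy : Commute y z := by
        have hcl : IsMulCommutative (Subgroup.closure ({a, b} : Set G)) := by
          refine Subgroup.isMulCommutative_closure ?_
          rintro u (rfl | rfl) v (rfl | rfl)
          exacts [rfl, hab, hab.symm, rfl]
        exact congrArg Subtype.val (hcl.is_comm.comm ⟨y, hy⟩ ⟨z, hz⟩)
      rw [hcy.mul_pow, ihy, ihz, one_mul]
    | inv y hy ihy => rw [inv_pow, ihy, inv_one]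
  have hpg : IsPGroup 2 (Subgroup.closure ({a, b} : Set G)) := fun y => ⟨1, Subtype.ext (by
    simpa using hE y y.2)⟩
  obtain ⟨k, hk⟩ := hpg.exists_card_eq
  have hcop2 : (2 : ℕ).Coprime (Nat.card X) := Nat.coprime_two_left.2 hX
  have hle : X ≤ stabilizer G d := by
    refine (Lib.Coprime.le_lineCentralizers hab hna hnb (hsq a ha.1) (hsq b hb.1)
      (by rw [hk]; exact hcop2.pow_left k) hcop2).trans (sup_le ?_ (iSup_le fun i => ?_))
    · exact fun y hy => hG.smul_eq_of_commute hb
        ((Subgroup.mem_centralizer_singleton_iff.1 hy.2).symm)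
    · intro y hy
      have hcen : (a * b ^ i.val) * y = y * (a * b ^ i.val) :=
        (Subgroup.mem_centralizer_singleton_iff.1 hy.2).symm
      refine hG.smul_eq_of_commute (t := a * b ^ i.val) ⟨?_, ?_⟩ hcen
      · have hmem : a * b ^ i.val ∈ Subgroup.closure ({a, b} : Set G) :=
          mul_mem (Subgroup.subset_closure (Set.mem_insert a {b}))
            (pow_mem (Subgroup.subset_closure (Set.mem_insert_of_mem a (Set.mem_singleton b))) i.val)
        refine orderOf_eq_prime (hE _ hmem) fun h => ?_
        have hi := ZMod.val_lt i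
        have h2 := eq_inv_of_mul_eq_one_left h
        interval_cases hv : i.val
        · exact invol_ne_one ha.1 (by simpa using h2)
        · exact hne (by rw [h2, pow_one, invol_inv hb.1])
      · have : ∀ n : ℕ, b ^ n • d = d := fun n => by
          induction n with
          | zero => simp
          | succ n ih => rw [pow_succ, mul_smul, hb.2, ih]
        rw [mul_smul, this, ha.2]
  exact hle hx

end OneFix

end Cfsg.Agent.Lib.BenderOne20
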