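import Mathlib
import Cfsg.Agent.Lib.BenderOne20.Setting
import Cfsg.Agent.Lib.Coprime.Glauberman

/-!
# Bender's theorem, part one: triangles

For a swapper `u` of `(a, b)` with fixed point `c`, the normaliser of a Sylow subgroup of `G_abc`
moves `c`.
-/

set_option autoImplicit false
set_option linter.style.haveILetI false

namespace Cfsg.Agent.Lib.BenderOne20

open MulAction Cfsg.Agent.Lib.Involutions.Basic

/-- `P` is a Sylow `p`-subgroup of the subgroup `D`. -/
def SylowIn {G : Type*} [Group G] (p : ℕ) (P D : Subgroup G) : Prop :=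
  P ≤ D ∧ Nat.card P = p ^ (Nat.card D).factorization p

namespace SylowIn

variable {G : Type*} [Group G] [Finite G] {p : ℕ} [Fact p.Prime] {P Q D : Subgroup G}

omit [Finite G] in
theorem isPGroup (h : SylowIn p P D) : IsPGroup p P :=
  IsPGroup.of_card h.2

theorem exists_ge {U : Subgroup G} (hU : IsPGroup p U) (hUD : U ≤ D) :
    ∃ P, SylowIn p P D ∧ U ≤ P := by
  obtain ⟨S, hS⟩ := (hU.comap_of_injective D.subtype D.subtype_injective).exists_le_sylow
  refine ⟨(S : Subgroup D).map D.subtype, ⟨Subgroup.map_subtype_le _, ?_⟩, fun x hx =>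
    ⟨⟨x, hUD hx⟩, hS hx, rfl⟩⟩
  rw [Nat.card_congr (Subgroup.equivMapOfInjective _ _ D.subtype_injective).symm.toEquiv]
  exact S.card_eq_multiplicity

theorem eq_of_le (h : SylowIn p P D) (hPQ : P ≤ Q) (hQD : Q ≤ D) (hQ : IsPGroup p Q) : Q = P := by
  obtain ⟨R, hR, hQR⟩ := exists_ge hQ hQD
  exact le_antisymm (by
    rw [Subgroup.eq_of_le_of_card_ge (hPQ.trans hQR) (le_of_eq (hR.2.trans h.2.symm))]
    exact hQR) hPQ

omit [Finite G] [Fact p.Prime] in
theorem map_conj (h : SylowIn p P D) (g : G) :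
    SylowIn p (P.map (MulAut.conj g).toMonoidHom) (D.map (MulAut.conj g).toMonoidHom) :=
  ⟨Subgroup.map_mono h.1, by
    rw [Subgroup.card_map_of_injective (MulAut.conj g).injective,
      Subgroup.card_map_of_injective (MulAut.conj g).injective, h.2]⟩

theorem conj_eq (h : SylowIn p P D) (h' : SylowIn p Q D) :
    ∃ d ∈ D, P.map (MulAut.conj d).toMonoidHom = Q := by
  have hc : ∀ {R : Subgroup G}, SylowIn p R D →
      Nat.card (R.subgroupOf D) = p ^ (Nat.card D).factorization p := fun {R} hR => by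
    rw [Nat.card_congr (Subgroup.subgroupOfEquivOfLe hR.1).toEquiv, hR.2]
  obtain ⟨d, hd⟩ := MulAction.exists_smul_eq D (Sylow.ofCard (P.subgroupOf D) (hc h))
    (Sylow.ofCard (Q.subgroupOf D) (hc h'))
  refine ⟨d, d.2, Subgroup.eq_of_le_of_card_ge ?_ (le_of_eq ?_)⟩
  · rintro _ ⟨x, hx, rfl⟩
    have h1 := congrArg (fun S : Sylow p D => (S : Subgroup D)) hd
    simp only [Sylow.coe_subgroup_smul, Sylow.coe_ofCard] at h1
    have h2 : d * ⟨x, h.1 hx⟩ * d⁻¹ ∈ Q.subgroupOf D := by
      rw [← h1]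
      simpa using Subgroup.smul_mem_pointwise_smul (a := MulAut.conj d) (⟨x, h.1 hx⟩ : D)
        (P.subgroupOf D) hx
    simpa [Subgroup.mem_subgroupOf] using h2
  · rw [Subgroup.card_map_of_injective (MulAut.conj (d : G)).injective, h.2, h'.2]

theorem of_ge (h : SylowIn p P D) {E : Subgroup G} (hPE : P ≤ E)
    (hcard : Nat.card E = Nat.card D) : SylowIn p P E :=
  ⟨hPE, by rw [hcard, h.2]⟩

/-- A `p`-subgroup of `D` whose normaliser in `D` adds no `p`-elements is a Sylow subgroup. -/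
theorem of_normalizer {E : Subgroup G} (hPD : P ≤ D) (hP : SylowIn p P E)
    (hN : D ⊓ Subgroup.normalizer (P : Set G) ≤ E) : SylowIn p P D := by
  obtain ⟨R, hR, hPR⟩ := exists_ge hP.isPGroup hPD
  rcases hPR.eq_or_lt with h | h
  · exact h ▸ hR
  · exfalso
    haveI : Group.IsNilpotent R := hR.isPGroup.isNilpotent
    have hlt : P.subgroupOf R < ⊤ := by
      rw [lt_top_iff_ne_top, ne_eq, Subgroup.subgroupOf_eq_top]
      exact h.not_ge
    obtain ⟨g, hgN, hgP⟩ := SetLike.exists_of_lt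
      (Group.normalizerCondition_of_isNilpotent _ hlt)
    have hgN' : (g : G) ∈ Subgroup.normalizer (P : Set G) := by
      rw [Subgroup.mem_normalizer_iff]
      intro x
      constructor
      · intro hx
        exact ((Subgroup.mem_normalizer_iff.1 hgN ⟨x, hPR hx⟩).1 hx :)
      · intro hx
        have hxR : x ∈ R := by
          have := mul_mem (mul_mem (inv_mem g.2) (hPR hx)) g.2
          simpa [mul_assoc] using this
        exact ((Subgroup.mem_normalizer_iff.1 hgN ⟨x, hxR⟩).2 hx :)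
    have hle : P ⊔ Subgroup.zpowers (g : G) ≤ R := sup_le hPR (Subgroup.zpowers_le.2 g.2)
    have hmemE : (g : G) ∈ E := hN ⟨hR.1 g.2, hgN'⟩
    have := hP.eq_of_le le_sup_left (sup_le hP.1 (Subgroup.zpowers_le.2 hmemE))
      (hR.isPGroup.to_le hle)
    exact hgP (Subgroup.mem_subgroupOf.2 (this ▸ Subgroup.mem_sup_right (Subgroup.mem_zpowers _)))

end SylowIn

namespace OneFix

variable {G Ω : Type*} [Group G] [MulAction G Ω] [Finite G] (hG : OneFix G Ω)
include hG

/-- The normaliser of a Sylow subgroup of `G_abc` moves `c`, if `c` is fixed by a swapper of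
`(a, b)`. -/
theorem exists_normalizer_moves {a b c : Ω} (hab : a ≠ b) {u : G} (hu : u ∈ swapSet G a b)
    (hc : u • c = c) {p : ℕ} [Fact p.Prime] {P : Subgroup G}
    (hP : SylowIn p P (pairStab G a b ⊓ stabilizer G c)) :
    ∃ g ∈ Subgroup.normalizer (P : Set G), g • c ≠ c := by
  by_contra hall
  push Not at hall
  have hPD : P ≤ pairStab G a b := hP.1.trans inf_le_left
  have h1 : SylowIn p P (pairStab G a b) :=
    SylowIn.of_normalizer hPD hP (fun g hg => ⟨hg.1, hall g hg.2⟩)
  have hca : c ≠ a := fun h => hab ((h ▸ hc).symm.trans hu.2)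
  have h2 : SylowIn p P (pairStab G c a) :=
    h1.of_ge (fun g hg => ⟨(hP.1 hg).2, (hP.1 hg).1.1⟩) (hG.card_pairStab_triangle hab hu hc).symm
  obtain ⟨w, hw⟩ := hG.swapSet_nonempty hca
  have hmap : (pairStab G c a).map (MulAut.conj w).toMonoidHom = pairStab G c a := by
    refine Subgroup.eq_of_le_of_card_ge ?_
      (le_of_eq (Subgroup.card_map_of_injective (MulAut.conj w).injective).symm)
    rintro _ ⟨x, ⟨hxc, hxa⟩, rfl⟩
    refine ⟨?_, ?_⟩
    · show (w * x * w⁻¹) • c = c
      rw [invol_inv hw.1, mul_smul, mul_smul, hw.2, (hxa : x • a = a), smul_swap hw]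
    · show (w * x * w⁻¹) • a = a
      rw [invol_inv hw.1, mul_smul, mul_smul, smul_swap hw, (hxc : x • c = c), hw.2]
  have h3 : SylowIn p (P.map (MulAut.conj w).toMonoidHom) (pairStab G c a) := hmap ▸ h2.map_conj w
  obtain ⟨d, hd, hd'⟩ := h3.conj_eq h2
  have hN : d * w ∈ Subgroup.normalizer (P : Set G) := by
    rw [Subgroup.mem_normalizer_iff_map_conj_eq]
    refine Eq.trans ?_ hd'
    rw [Subgroup.map_map]
    congr 1
    ext x
    simp [mul_assoc]
  have h4 := hall _ hN
  rw [mul_smul, hw.2, (hd.2 : d • a = a)] at h4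
  exact hca h4.symm

/-- Some Sylow subgroup of `G_abc` is normalised by the given swapper. -/
theorem exists_invariant_sylowIn {a b c : Ω} (hab : a ≠ b) {u : G} (hu : u ∈ swapSet G a b)
    (hc : u • c = c) (p : ℕ) [Fact p.Prime] :
    ∃ P, SylowIn p P (pairStab G a b ⊓ stabilizer G c) ∧
      u ∈ Subgroup.normalizer (P : Set G) := by
  set Y := pairStab G a b ⊓ stabilizer G c with hY
  have hodd : Odd (Nat.card Y) :=
    (hG.odd_pairStab hab).of_dvd_nat (Subgroup.card_dvd_of_le inf_le_left)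
  have hAK : Subgroup.zpowers u ≤ Subgroup.normalizer (Y : Set G) := by
    rw [Subgroup.zpowers_le, Subgroup.mem_normalizer_iff]
    intro x
    simp only [hY, Subgroup.mem_inf, mem_stabilizer_iff, invol_inv hu.1, mul_smul, hc, hu.2,
      smul_swap hu]
    constructor
    · rintro ⟨⟨h1, h2⟩, h3⟩
      exact ⟨⟨by rw [h2, smul_swap hu], by rw [h1, hu.2]⟩, by rw [h3, hc]⟩
    · rintro ⟨⟨h1, h2⟩, h3⟩
      have e : ∀ z w : Ω, u • z = w → z = u • w := fun z w h => by
        rw [← h, smul_smul, invol_mul_self hu.1, one_smul]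
      exact ⟨⟨(e _ _ h2).trans (smul_swap hu), (e _ _ h1).trans hu.2⟩, (e _ _ h3).trans hc⟩
  have hcop : (Nat.card (Subgroup.zpowers u)).Coprime (Nat.card Y) := by
    rw [Nat.card_zpowers, hu.1]
    exact Nat.coprime_two_left.2 hodd
  obtain ⟨S, hS⟩ := Lib.Coprime.exists_invariant_sylow hAK hcop
    (Or.inl inferInstance) p
  refine ⟨_, ⟨Subgroup.map_subtype_le _, ?_⟩, hS (Subgroup.mem_zpowers u)⟩
  rw [Nat.card_congr (Subgroup.equivMapOfInjective _ _ Y.subtype_injective).symm.toEquiv]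
  exact S.card_eq_multiplicity

/-- The involutions normalising a `u`-invariant Sylow subgroup of `G_abc` do not have a common
fixed point. -/
theorem exists_normalizer_invols {a b c : Ω} (hab : a ≠ b) {u : G} (hu : u ∈ swapSet G a b)
    (hc : u • c = c) {p : ℕ} [Fact p.Prime] {P : Subgroup G}
    (hP : SylowIn p P (pairStab G a b ⊓ stabilizer G c))
    (huP : u ∈ Subgroup.normalizer (P : Set G)) :
    ∃ e : Ω, e ≠ c ∧ ∃ w ∈ invAt G e, w ∈ Subgroup.normalizer (P : Set G) := by
  obtain ⟨g, hg, hgc⟩ := hG.exists_normalizer_moves hab hu hc hP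
  exact ⟨g • c, hgc, g * u * g⁻¹, conj_mem_invAt ⟨hu.1, hc⟩,
    mul_mem (mul_mem hg huP) (inv_mem hg)⟩

end OneFix

end Cfsg.Agent.Lib.BenderOne20
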